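import Cfsg.Agent.Lib.helper17.F22M.Pack

/-! Soundness of the packed matrix product (helper17, S5547). -/

set_option autoImplicit false

namespace Cfsg.Agent.Lib.helper17.F22M

/-- the entry `(i, j)` of a packed matrix -/
def ent (n b M i j : ℕ) : ℕ := M / b ^ (n * i + j) % b

/-- all entries are below `p` -/
def WFC (n p b M : ℕ) : Prop := ∀ i < n, ∀ j < n, ent n b M i j < p

/-- the matrix of a packed matrix -/
def toMatC (n p b M : ℕ) : Matrix (Fin n) (Fin n) (ZMod p) :=
  fun i j => ((ent n b M i.val j.val : ℕ) : ZMod p)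

theorem ent_eq_row (n b M i j : ℕ) (hj : j < n) :
    ent n b M i j = M / (b ^ n) ^ i % b ^ n / b ^ j % b := by
  unfold ent
  rw [mod_pow_div _ _ _ _ hj, Nat.div_div_eq_div_mul, ← pow_mul, ← pow_add]

theorem mulC_eq (n p b A B : ℕ) :
    mulC n p b A B = ∑ i ∈ Finset.range n,
      (∑ j ∈ Finset.range n,
        ((∑ k ∈ Finset.range n, (A / (b ^ n) ^ i % b ^ n / b ^ k % b) * (B / (b ^ n) ^ k % b ^ n))
          / b ^ j % b % p) * b ^ j) * (b ^ n) ^ i := by
  unfold mulC
  rw [forceN_eq]
  show splitC (b ^ n) n B (fun rows => rowsC n p b (b ^ n) rows n A 1 0) = _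
  rw [splitC_eq, rowsC_eq, zero_add, one_mul]
  refine Finset.sum_congr rfl (fun i _ => ?_)
  rw [redC_eq, zero_add, one_mul, List.range_eq_range']
  simp only [dotL_eq, zero_add]

theorem ent_mulC (n p b A B : ℕ) (hp : 0 < p) (hpb : p ≤ b) (hbig : n * (p * p) ≤ b)
    (hA : WFC n p b A) (hB : WFC n p b B) (i j : ℕ) (hi : i < n) (hj : j < n) :
    ent n b (mulC n p b A B) i j
      = (∑ k ∈ Finset.range n, ent n b A i k * ent n b B k j) % p := by
  have hb : 0 < b := lt_of_lt_of_le hp hpb
  have hW : 0 < b ^ n := Nat.pow_pos hb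
  -- the unreduced row
  set X : ℕ → ℕ := fun i => ∑ k ∈ Finset.range n,
    (A / (b ^ n) ^ i % b ^ n / b ^ k % b) * (B / (b ^ n) ^ k % b ^ n) with hX
  set R : ℕ → ℕ := fun i => ∑ j ∈ Finset.range n, (X i / b ^ j % b % p) * b ^ j with hR
  have hmul : mulC n p b A B = ∑ i ∈ Finset.range n, R i * (b ^ n) ^ i := mulC_eq n p b A B
  have hdig : ∀ i, ∀ t < n, X i / b ^ t % b % p < b := fun i t _ =>
    lt_of_lt_of_le (Nat.mod_lt _ hp) hpb
  have hRlt : ∀ t < n, R t < b ^ n := fun t _ => dsum_lt b hb _ n (hdig t)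
  rw [ent_eq_row n b _ i j hj, hmul, dsum_digit (b ^ n) hW R n hRlt i hi]
  show (∑ j ∈ Finset.range n, (X i / b ^ j % b % p) * b ^ j) / b ^ j % b = _
  rw [dsum_digit b hb (fun t => X i / b ^ t % b % p) n (hdig i) j hj]
  congr 1
  -- the digits of the unreduced row
  have hXi : X i = ∑ t ∈ Finset.range n,
      (∑ k ∈ Finset.range n, ent n b A i k * ent n b B k t) * b ^ t := by
    rw [hX]
    show ∑ k ∈ Finset.range n, (A / (b ^ n) ^ i % b ^ n / b ^ k % b) * (B / (b ^ n) ^ k % b ^ n) = _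
    have h1 : ∀ k ∈ Finset.range n,
        (A / (b ^ n) ^ i % b ^ n / b ^ k % b) * (B / (b ^ n) ^ k % b ^ n)
          = ∑ t ∈ Finset.range n, ent n b A i k * ent n b B k t * b ^ t := by
      intro k hk
      have hk' : k < n := Finset.mem_range.mp hk
      rw [← ent_eq_row n b A i k hk', mod_pow_expand b _ n, Finset.mul_sum]
      apply Finset.sum_congr rfl
      intro t ht
      have ht' : t < n := Finset.mem_range.mp ht
      rw [ent_eq_row n b B k t ht', mod_pow_div _ _ _ _ ht', mul_assoc]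
    rw [Finset.sum_congr rfl h1, Finset.sum_comm]
    apply Finset.sum_congr rfl
    intro t _
    rw [Finset.sum_mul]
  rw [hXi]
  apply dsum_digit b hb _ n _ j hj
  intro t ht
  -- the bound
  have hterm : ∀ k ∈ Finset.range n, ent n b A i k * ent n b B k t ≤ (p - 1) * (p - 1) := by
    intro k hk
    have hk' : k < n := Finset.mem_range.mp hk
    have h1 := hA i hi k hk'
    have h2 := hB k hk' t ht
    exact Nat.mul_le_mul (by omega) (by omega)
  have hs := Finset.sum_le_card_nsmul (Finset.range n) _ _ hterm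
  rw [Finset.card_range, smul_eq_mul] at hs
  have hn : 0 < n := lt_of_le_of_lt (Nat.zero_le _) hi
  have h3 : (p - 1) * (p - 1) < p * p := by
    have : p - 1 < p := by omega
    exact Nat.mul_lt_mul'' this this
  calc _ ≤ n * ((p - 1) * (p - 1)) := hs
    _ < n * (p * p) := Nat.mul_lt_mul_of_pos_left h3 hn
    _ ≤ b := hbig

theorem WFC_mulC (n p b A B : ℕ) (hp : 0 < p) (hpb : p ≤ b) (hbig : n * (p * p) ≤ b)
    (hA : WFC n p b A) (hB : WFC n p b B) : WFC n p b (mulC n p b A B) := by
  intro i hi j hj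
  rw [ent_mulC n p b A B hp hpb hbig hA hB i j hi hj]
  exact Nat.mod_lt _ hp

theorem toMatC_mulC (n p b A B : ℕ) (hp : 0 < p) (hpb : p ≤ b) (hbig : n * (p * p) ≤ b)
    (hA : WFC n p b A) (hB : WFC n p b B) :
    toMatC n p b (mulC n p b A B) = toMatC n p b A * toMatC n p b B := by
  ext i j
  rw [Matrix.mul_apply]
  unfold toMatC
  rw [ent_mulC n p b A B hp hpb hbig hA hB i.val j.val i.isLt j.isLt, ZMod.natCast_mod,
    Nat.cast_sum,
    Fin.sum_univ_eq_sum_range (fun k => ((ent n b A i.val k : ℕ) : ZMod p) *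
      ((ent n b B k j.val : ℕ) : ZMod p)) n]
  apply Finset.sum_congr rfl
  intro k _
  rw [Nat.cast_mul]

/-- the packed identity matrix: `∑ i < k, b ^ (n * i + i)` -/
def idC (n b : ℕ) (k : ℕ) : ℕ :=
  @Nat.rec (fun _ => ℕ) 0 (fun i ih => Nat.add ih (Nat.pow b (Nat.add (Nat.mul n i) i))) k

theorem idC_eq (n b k : ℕ) (hk : k ≤ n) :
    idC n b k = ∑ i ∈ Finset.range k,
      (∑ j ∈ Finset.range n, (if i = j then 1 else 0) * b ^ j) * (b ^ n) ^ i := by
  induction k with
  | zero => rfl
  | succ k ih =>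
    rw [Finset.sum_range_succ, ← ih (Nat.le_of_succ_le hk)]
    show idC n b k + b ^ (n * k + k) = _
    congr 1
    have hk' : k < n := hk
    rw [Finset.sum_eq_single k]
    · simp [pow_add, pow_mul, mul_comm]
    · intro j _ hj
      simp [Ne.symm hj]
    · intro h
      exact absurd (Finset.mem_range.mpr hk') h

theorem ent_idC (n b : ℕ) (hb : 1 < b) (i j : ℕ) (hi : i < n) (hj : j < n) :
    ent n b (idC n b n) i j = if i = j then 1 else 0 := by
  have hb0 : 0 < b := by omega
  have hW : 0 < b ^ n := Nat.pow_pos hb0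
  have hdig : ∀ i, ∀ t < n, (if i = t then 1 else 0) < b := by
    intro i t _
    split <;> omega
  rw [ent_eq_row n b _ i j hj, idC_eq n b n le_rfl,
    dsum_digit (b ^ n) hW (fun i => ∑ j ∈ Finset.range n, (if i = j then 1 else 0) * b ^ j) n
      (fun t _ => dsum_lt b hb0 _ n (hdig t)) i hi]
  exact dsum_digit b hb0 (fun t => if i = t then 1 else 0) n (hdig i) j hj

theorem WFC_idC (n p b : ℕ) (hp : 1 < p) (hb : 1 < b) : WFC n p b (idC n b n) := by
  intro i hi j hj
  rw [ent_idC n b hb i j hi hj]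
  split <;> omega

theorem toMatC_idC (n p b : ℕ) (hb : 1 < b) : toMatC n p b (idC n b n) = 1 := by
  ext i j
  unfold toMatC
  rw [ent_idC n b hb i.val j.val i.isLt j.isLt, Matrix.one_apply]
  by_cases h : i = j
  · subst h; simp
  · have : i.val ≠ j.val := fun e => h (Fin.ext e)
    simp [h, this]

/-- the product of the letters of a word, from the left, starting with `acc` -/
def evalC (n p b : ℕ) (gen : ℕ → ℕ) (w : List ℕ) : ℕ → ℕ :=
  @List.rec ℕ (fun _ => ℕ → ℕ) (fun acc => acc)
    (fun x _ ih acc => forceN (mulC n p b acc (gen x)) ih) w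

theorem evalC_spec (n p b : ℕ) (hp : 0 < p) (hpb : p ≤ b) (hbig : n * (p * p) ≤ b)
    (gen : ℕ → ℕ) (w : List ℕ) (hgen : ∀ x ∈ w, WFC n p b (gen x)) (acc : ℕ)
    (hacc : WFC n p b acc) :
    WFC n p b (evalC n p b gen w acc) ∧
    toMatC n p b (evalC n p b gen w acc)
      = toMatC n p b acc * (w.map (fun x => toMatC n p b (gen x))).prod := by
  induction w generalizing acc with
  | nil => exact ⟨hacc, by simp [evalC]⟩
  | cons x w ih =>
    have hx : WFC n p b (gen x) := hgen x (List.mem_cons_self)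
    have hw : ∀ y ∈ w, WFC n p b (gen y) := fun y hy => hgen y (List.mem_cons_of_mem _ hy)
    have h1 := WFC_mulC n p b acc (gen x) hp hpb hbig hacc hx
    have h2 := ih hw (mulC n p b acc (gen x)) h1
    have e : evalC n p b gen (x :: w) acc = evalC n p b gen w (mulC n p b acc (gen x)) := by
      show forceN (mulC n p b acc (gen x)) (evalC n p b gen w) = _
      rw [forceN_eq]
    rw [e]
    refine ⟨h2.1, ?_⟩
    rw [h2.2, toMatC_mulC n p b acc (gen x) hp hpb hbig hacc hx, List.map_cons, List.prod_cons,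
      mul_assoc]

/-- a relator `w ^ k` holds for the matrices of the generators -/
theorem rel_of_chkC (n p b : ℕ) (hp : 1 < p) (hpb : p ≤ b) (hbig : n * (p * p) ≤ b)
    (gen : ℕ → ℕ) (w : List ℕ) (k : ℕ) (hgen : ∀ x ∈ w, WFC n p b (gen x))
    (h : evalC n p b gen (List.flatten (List.replicate k w)) (idC n b n) = idC n b n) :
    ((w.map (fun x => toMatC n p b (gen x))).prod) ^ k = 1 := by
  have hb : 1 < b := lt_of_lt_of_le hp hpb
  have hall : ∀ x ∈ List.flatten (List.replicate k w), WFC n p b (gen x) := by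
    intro x hx
    rw [List.mem_flatten] at hx
    obtain ⟨l, hl, hxl⟩ := hx
    rw [List.mem_replicate] at hl
    exact hgen x (hl.2 ▸ hxl)
  have h1 := (evalC_spec n p b (by omega) hpb hbig gen _ hall (idC n b n)
    (WFC_idC n p b hp hb)).2
  rw [h, toMatC_idC n p b hb, one_mul, List.map_flatten, List.prod_flatten, List.map_replicate,
    List.map_replicate, List.prod_replicate] at h1
  exact h1.symm

end Cfsg.Agent.Lib.helper17.F22M
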