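import Cfsg.Agent.Lib.helper17.F22M.DataC
import Cfsg.Agent.Lib.helper17.F22M.PackSound

/-! the Coxeter relators of `Y₃₃₂` on the packed matrices (helper17, S5547) -/

set_option autoImplicit false

namespace Cfsg.Agent.Lib.helper17.F22M

/-- the edges of the graph, by numbers -/
def adjN (i j : ℕ) : Bool :=
  (i == 0 && j == 1) || (i == 1 && j == 2) || (i == 2 && j == 3) || (i == 3 && j == 4) ||
  (i == 3 && j == 7) || (i == 4 && j == 5) || (i == 5 && j == 6) || (i == 7 && j == 8)

/-- the labels of the graph, by numbers -/
def labN (i j : ℕ) : ℕ :=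
  if i = j then 1 else if adjN i j || adjN j i then 3 else 2

theorem cox_chk : ∀ i ∈ List.range 9, ∀ j ∈ List.range 9, i < j →
    evalC 78 13 65536 genC (List.flatten (List.replicate (labN i j) [i, j]))
      (idC 78 65536 78) = idC 78 65536 78 := by
  decide +kernel

end Cfsg.Agent.Lib.helper17.F22M
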