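import Cfsg.Agent.Lib.helper17.F22M.DataC
import Cfsg.Agent.Lib.helper17.F22M.PackSound

/-! the relator `(a b c d e f h)^9` on the packed matrices (helper17, S5547) -/

set_option autoImplicit false

namespace Cfsg.Agent.Lib.helper17.F22M

theorem e7a_chk :
    evalC 78 13 65536 genC (List.flatten (List.replicate 9 [0, 1, 2, 3, 4, 5, 7]))
      (idC 78 65536 78) = idC 78 65536 78 := by
  decide +kernel

end Cfsg.Agent.Lib.helper17.F22M
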