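import Cfsg.Agent.Lib.helper17.F22M.DataC
import Cfsg.Agent.Lib.helper17.F22M.PackSound

/-! the entries of the nine packed matrices are below 13; the squares of the matrices (helper17, S5547) -/

set_option autoImplicit false

namespace Cfsg.Agent.Lib.helper17.F22M

theorem wf_all : ∀ x ∈ List.range 9, ∀ i < 78, ∀ j < 78, ent 78 65536 (genC x) i j < 13 := by
  decide +kernel

theorem wf_gen (x : ℕ) (hx : x < 9) : WFC 78 13 65536 (genC x) :=
  wf_all x (List.mem_range.mpr hx)

theorem sq_all : ∀ x ∈ List.range 9,
    evalC 78 13 65536 genC [x, x] (idC 78 65536 78) = idC 78 65536 78 := by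
  decide +kernel

end Cfsg.Agent.Lib.helper17.F22M
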