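import Cfsg.Prelude.Def_Spor_Fi22
import Cfsg.Agent.Lib.helper17.F22M.ChkWF
import Cfsg.Agent.Lib.helper17.F22M.ChkSp
import Cfsg.Agent.Lib.helper17.F22M.ChkE7a
import Cfsg.Agent.Lib.helper17.F22M.ChkE7b
import Cfsg.Agent.Lib.helper17.F22M.ChkCox
import Cfsg.Agent.Lib.Helper12.Ord.Fi22Simple

/-! Fi22 embeds in `GL (Fin 78) (ZMod 13)` (helper17, S5547). -/

set_option autoImplicit false

namespace Cfsg.Agent.Lib.helper17.F22M

open Cfsg Cfsg.Spor

/-- the matrix of the generator number `x` -/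
noncomputable def GM (x : ℕ) : Matrix (Fin 78) (Fin 78) (ZMod 13) := toMatC 78 13 65536 (genC x)

theorem rel_GM (w : List ℕ) (k : ℕ) (hw : ∀ x ∈ w, x < 9)
    (h : evalC 78 13 65536 genC (List.flatten (List.replicate k w)) (idC 78 65536 78)
      = idC 78 65536 78) : ((w.map GM).prod) ^ k = 1 :=
  rel_of_chkC 78 13 65536 (by norm_num) (by norm_num) (by norm_num) genC w k
    (fun x hx => wf_gen x (hw x hx)) h

theorem GM_sq (x : ℕ) (hx : x < 9) : GM x * GM x = 1 := by
  have h := rel_GM [x, x] 1 (by simp [hx]) (by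
    simpa using sq_all x (List.mem_range.mpr hx))
  simpa using h

theorem GM_pair (i j : ℕ) (hi : i < 9) (hj : j < 9) (hij : i < j) :
    (GM i * GM j) ^ labN i j = 1 := by
  have h := rel_GM [i, j] (labN i j) (by simp [hi, hj])
    (cox_chk i (List.mem_range.mpr hi) j (List.mem_range.mpr hj) hij)
  simpa using h

/-- the generators in the general linear group -/
noncomputable def GU (x : ℕ) : GL (Fin 78) (ZMod 13) :=
  if hx : x < 9 then ⟨GM x, GM x, GM_sq x hx, GM_sq x hx⟩ else 1

theorem GU_val (x : ℕ) (hx : x < 9) : (GU x : Matrix (Fin 78) (Fin 78) (ZMod 13)) = GM x := by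
  unfold GU
  rw [dif_pos hx]

theorem labN_self (i : ℕ) : labN i i = 1 := by simp [labN]

theorem labN_symm (i j : ℕ) : labN i j = labN j i := by
  unfold labN
  by_cases h : i = j
  · subst h; rfl
  · rw [if_neg h, if_neg (Ne.symm h), Bool.or_comm]

theorem GU_pair (i j : ℕ) (hi : i < 9) (hj : j < 9) : (GU i * GU j) ^ labN i j = 1 := by
  have key : ∀ i j, i < 9 → j < 9 → i < j → (GU i * GU j) ^ labN i j = 1 := by
    intro i j hi hj hij
    apply Units.ext
    rw [Units.val_pow_eq_pow_val, Units.val_mul, GU_val i hi, GU_val j hj]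
    exact GM_pair i j hi hj hij
  rcases lt_trichotomy i j with h | h | h
  · exact key i j hi hj h
  · subst h
    rw [labN_self, pow_one]
    apply Units.ext
    rw [Units.val_mul, GU_val i hi]
    exact GM_sq i hi
  · have h1 := key j i hj hi h
    rw [labN_symm i j]
    have e : GU i * GU j = (GU j)⁻¹ * (GU j * GU i) * ((GU j)⁻¹)⁻¹ := by group
    rw [e, conj_pow, h1]
    group

/-- the numbers of the generators -/
def gi : Fi22.Gen → ℕ
  | .a => 0 | .b => 1 | .c => 2 | .d => 3 | .e => 4 | .f => 5 | .g => 6 | .h => 7 | .i => 8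

theorem gi_lt (x : Fi22.Gen) : gi x < 9 := by cases x <;> decide

theorem label_eq (x y : Fi22.Gen) : coxLabel Fi22.edges x y = labN (gi x) (gi y) := by
  cases x <;> cases y <;> decide

theorem spider_GU :
    (GU 3 * GU 2 * GU 1 * GU 3 * GU 4 * GU 5 * GU 3 * GU 7 * GU 8) ^ 10 = 1 := by
  apply Units.ext
  have h := rel_GM [3, 2, 1, 3, 4, 5, 3, 7, 8] 10 (by decide) spider_chk
  simp only [Units.val_pow_eq_pow_val, Units.val_mul, Units.val_one,
    GU_val 1 (by norm_num), GU_val 2 (by norm_num), GU_val 3 (by norm_num), GU_val 4 (by norm_num),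
    GU_val 5 (by norm_num), GU_val 7 (by norm_num), GU_val 8 (by norm_num)]
  simpa [mul_assoc] using h

theorem e7a_GU : (GU 0 * GU 1 * GU 2 * GU 3 * GU 4 * GU 5 * GU 7) ^ 9 = 1 := by
  apply Units.ext
  have h := rel_GM [0, 1, 2, 3, 4, 5, 7] 9 (by decide) e7a_chk
  simp only [Units.val_pow_eq_pow_val, Units.val_mul, Units.val_one,
    GU_val 0 (by norm_num), GU_val 1 (by norm_num), GU_val 2 (by norm_num), GU_val 3 (by norm_num),
    GU_val 4 (by norm_num), GU_val 5 (by norm_num), GU_val 7 (by norm_num)]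
  simpa [mul_assoc] using h

theorem e7b_GU : (GU 1 * GU 2 * GU 3 * GU 4 * GU 5 * GU 6 * GU 7) ^ 9 = 1 := by
  apply Units.ext
  have h := rel_GM [1, 2, 3, 4, 5, 6, 7] 9 (by decide) e7b_chk
  simp only [Units.val_pow_eq_pow_val, Units.val_mul, Units.val_one,
    GU_val 1 (by norm_num), GU_val 2 (by norm_num), GU_val 3 (by norm_num), GU_val 4 (by norm_num),
    GU_val 5 (by norm_num), GU_val 6 (by norm_num), GU_val 7 (by norm_num)]
  simpa [mul_assoc] using h

theorem rels_hold : ∀ r ∈ coxRelators Fi22.edges ∪ {r | r ∈ Fi22.extra},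
    FreeGroup.lift (fun x => GU (gi x)) r = 1 := by
  intro r hr
  rcases hr with hr | hr
  · obtain ⟨x, _, y, _, rfl⟩ := hr
    rw [map_pow, map_mul, FreeGroup.lift_apply_of, FreeGroup.lift_apply_of, label_eq]
    exact GU_pair (gi x) (gi y) (gi_lt x) (gi_lt y)
  · have hr' : r ∈ Fi22.extra := hr
    simp only [Fi22.extra, List.mem_cons, List.not_mem_nil, or_false] at hr'
    rcases hr' with rfl | rfl | rfl
    · simp only [map_pow, map_mul, FreeGroup.lift_apply_of]
      exact spider_GU
    · simp only [map_pow, map_mul, FreeGroup.lift_apply_of]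
      exact e7a_GU
    · simp only [map_pow, map_mul, FreeGroup.lift_apply_of]
      exact e7b_GU

/-- the representation -/
noncomputable def rep : Fi22 →* GL (Fin 78) (ZMod 13) :=
  PresentedGroup.toGroup (f := fun x => GU (gi x)) rels_hold

theorem ent_cA : ent 78 65536 cA 0 0 = 7 := by decide +kernel

theorem GU_zero_ne : GU 0 ≠ 1 := by
  intro h
  have h1 := congrArg (fun g : GL (Fin 78) (ZMod 13) => (g : Matrix (Fin 78) (Fin 78) (ZMod 13)) 0 0) h
  simp only [GU_val 0 (by norm_num), Units.val_one, Matrix.one_apply_eq] at h1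
  have h2 : GM 0 0 0 = ((7 : ℕ) : ZMod 13) := by
    show ((ent 78 65536 (genC 0) 0 0 : ℕ) : ZMod 13) = _
    have : genC 0 = cA := rfl
    rw [this, ent_cA]
  rw [h2] at h1
  revert h1
  decide

theorem rep_injective : Function.Injective rep := by
  haveI : IsSimpleGroup Fi22 := Cfsg.Agent.Lib.Helper12.Ord.Fi22Simple.isSimpleGroup
  rw [← MonoidHom.ker_eq_bot_iff]
  rcases (MonoidHom.normal_ker rep).eq_bot_or_eq_top with h | h
  · exact h
  · exfalso
    have h1 : (PresentedGroup.of Fi22.Gen.a : Fi22) ∈ rep.ker := by rw [h]; trivial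
    rw [MonoidHom.mem_ker] at h1
    have h2 : rep (PresentedGroup.of Fi22.Gen.a) = GU 0 := by
      unfold rep
      rw [PresentedGroup.toGroup.of]
      rfl
    exact GU_zero_ne (h2 ▸ h1)

theorem exists_embedding : ∃ f : Fi22 →* GL (Fin 78) (ZMod 13), Function.Injective f :=
  ⟨rep, rep_injective⟩

end Cfsg.Agent.Lib.helper17.F22M
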