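import Mathlib

/-! Packed matrices over `ZMod p`: a matrix of size `n` is one natural number, its entries are the
digits in base `b`; a product that the kernel evaluates fast, with its soundness (helper17, S5547). -/

set_option autoImplicit false

namespace Cfsg.Agent.Lib.helper17.F22M

/-- evaluate `n` before going on -/
def forceN {α : Sort*} (n : ℕ) (k : ℕ → α) : α :=
  @Nat.rec (fun _ => α) (k Nat.zero) (fun m _ => k (Nat.succ m)) n

theorem forceN_eq {α : Sort*} (n : ℕ) (k : ℕ → α) : forceN n k = k n := by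
  cases n <;> rfl

/-! ### digits -/

theorem dsum_lt (b : ℕ) (_hb : 0 < b) (d : ℕ → ℕ) (n : ℕ) (hd : ∀ t < n, d t < b) :
    ∑ t ∈ Finset.range n, d t * b ^ t < b ^ n := by
  induction n with
  | zero => simp
  | succ n ih =>
    rw [Finset.sum_range_succ, pow_succ]
    have h1 := ih (fun t ht => hd t (Nat.lt_succ_of_lt ht))
    have h2 : d n + 1 ≤ b := hd n (Nat.lt_succ_self n)
    have h3 : (d n + 1) * b ^ n ≤ b * b ^ n := Nat.mul_le_mul_right _ h2
    nlinarith

theorem dsum_digit (b : ℕ) (hb : 0 < b) (d : ℕ → ℕ) (n : ℕ) (hd : ∀ t < n, d t < b)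
    (j : ℕ) (hj : j < n) :
    (∑ t ∈ Finset.range n, d t * b ^ t) / b ^ j % b = d j := by
  induction n with
  | zero => omega
  | succ n ih =>
    rw [Finset.sum_range_succ]
    have hlt := dsum_lt b hb d n (fun t ht => hd t (Nat.lt_succ_of_lt ht))
    have hbj : 0 < b ^ j := Nat.pow_pos hb
    rcases Nat.lt_succ_iff_lt_or_eq.mp hj with h | h
    · obtain ⟨m, rfl⟩ : ∃ m, n = j + 1 + m := ⟨n - j - 1, by omega⟩
      have e : d (j + 1 + m) * b ^ (j + 1 + m) = (d (j + 1 + m) * b ^ m * b) * b ^ j := by ring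
      rw [e, Nat.add_mul_div_right _ _ hbj, Nat.add_mul_mod_self_right]
      exact ih (fun t ht => hd t (Nat.lt_succ_of_lt ht)) h
    · subst h
      rw [Nat.add_mul_div_right _ _ hbj, Nat.div_eq_of_lt hlt, zero_add]
      exact Nat.mod_eq_of_lt (hd j (Nat.lt_succ_self j))

theorem mod_pow_expand (b : ℕ) (x n : ℕ) :
    x % b ^ n = ∑ t ∈ Finset.range n, (x / b ^ t % b) * b ^ t := by
  induction n with
  | zero => simp [Nat.mod_one]
  | succ n ih =>
    rw [Finset.sum_range_succ, ← ih, Nat.mod_pow_succ, mul_comm]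

theorem mod_pow_div (b : ℕ) (x n j : ℕ) (hj : j < n) :
    x % b ^ n / b ^ j % b = x / b ^ j % b := by
  have e : b ^ n = b ^ j * (b ^ (n - j - 1) * b) := by
    have : n = j + ((n - j - 1) + 1) := by omega
    conv_lhs => rw [this, pow_add, pow_succ]
  rw [e, Nat.mod_mul_right_div_self, Nat.mod_mul_left_mod]

/-! ### the loops -/

/-- the first `k` digits of `x` in base `W`, handed on as a list of numerals -/
def splitC {α : Sort*} (W : ℕ) (k : ℕ) : ℕ → (List ℕ → α) → α :=
  @Nat.rec (fun _ => ℕ → (List ℕ → α) → α) (fun _ c => c List.nil)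
    (fun _ ih x c => forceN x (fun x => forceN (Nat.mod x W) (fun r =>
      ih (Nat.div x W) (fun t => c (List.cons r t))))) k

theorem splitC_eq {α : Sort*} (W : ℕ) (k : ℕ) (x : ℕ) (c : List ℕ → α) :
    splitC W k x c = c ((List.range k).map (fun t => x / W ^ t % W)) := by
  induction k generalizing x c with
  | zero => rfl
  | succ k ih =>
    show forceN x (fun x => forceN (Nat.mod x W) (fun r =>
      splitC W k (Nat.div x W) (fun t => c (List.cons r t)))) = _
    rw [forceN_eq, forceN_eq, ih]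
    congr 1
    rw [List.range_succ_eq_map, List.map_cons, List.map_map]
    congr 1
    · simp only [pow_zero, Nat.div_one]; rfl
    · apply List.map_congr_left
      intro t _
      show x / W / W ^ t % W = x / W ^ (t + 1) % W
      rw [Nat.div_div_eq_div_mul, pow_succ']

/-- `acc + ∑ (digit t of ra) * rows[t]` -/
def dotL (b : ℕ) (rows : List ℕ) : ℕ → ℕ → ℕ :=
  @List.rec ℕ (fun _ => ℕ → ℕ → ℕ) (fun _ acc => acc)
    (fun r _ ih ra acc => forceN ra (fun ra =>
      ih (Nat.div ra b) (Nat.add acc (Nat.mul (Nat.mod ra b) r)))) rows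

theorem dotL_eq (b : ℕ) (f : ℕ → ℕ) (k s : ℕ) (ra acc : ℕ) :
    dotL b ((List.range' s k).map f) ra acc
      = acc + ∑ t ∈ Finset.range k, (ra / b ^ t % b) * f (s + t) := by
  induction k generalizing s ra acc with
  | zero => simp [dotL]
  | succ k ih =>
    rw [List.range'_succ, List.map_cons]
    show forceN ra (fun ra => dotL b ((List.range' (s + 1) k).map f) (Nat.div ra b)
      (Nat.add acc (Nat.mul (Nat.mod ra b) (f s)))) = _
    rw [forceN_eq, ih, Finset.sum_range_succ']
    show acc + ra % b * f s + ∑ t ∈ Finset.range k, ra / b / b ^ t % b * f (s + 1 + t) = _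
    have : ∀ t, ra / b / b ^ t % b * f (s + 1 + t) = ra / b ^ (t + 1) % b * f (s + (t + 1)) := by
      intro t
      rw [Nat.div_div_eq_div_mul, pow_succ', add_assoc, add_comm 1 t]
    simp only [this, pow_zero, Nat.div_one, add_zero]
    ring

/-- the first `k` digits of `x` reduced modulo `p`, packed again: `out + pw * ∑ …` -/
def redC (b p : ℕ) (k : ℕ) : ℕ → ℕ → ℕ → ℕ :=
  @Nat.rec (fun _ => ℕ → ℕ → ℕ → ℕ) (fun _ _ out => out)
    (fun _ ih x pw out => forceN x (fun x => forceN pw (fun pw =>
      ih (Nat.div x b) (Nat.mul pw b) (Nat.add out (Nat.mul (Nat.mod (Nat.mod x b) p) pw))))) k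

theorem redC_eq (b p : ℕ) (k : ℕ) (x pw out : ℕ) :
    redC b p k x pw out
      = out + pw * ∑ t ∈ Finset.range k, (x / b ^ t % b % p) * b ^ t := by
  induction k generalizing x pw out with
  | zero => simp [redC]
  | succ k ih =>
    show forceN x (fun x => forceN pw (fun pw => redC b p k (Nat.div x b) (Nat.mul pw b)
      (Nat.add out (Nat.mul (Nat.mod (Nat.mod x b) p) pw)))) = _
    rw [forceN_eq, forceN_eq, ih, Finset.sum_range_succ']
    show out + x % b % p * pw + pw * b * ∑ t ∈ Finset.range k, x / b / b ^ t % b % p * b ^ t = _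
    have h : ∀ t, x / b ^ (t + 1) % b % p * b ^ (t + 1) = b * (x / b / b ^ t % b % p * b ^ t) := by
      intro t
      rw [Nat.div_div_eq_div_mul, ← pow_succ']
      ring
    simp only [h, ← Finset.mul_sum, pow_zero, Nat.div_one, mul_one]
    ring

/-- the rows of the product, one after the other -/
def rowsC (n p b W : ℕ) (rows : List ℕ) (k : ℕ) : ℕ → ℕ → ℕ → ℕ :=
  @Nat.rec (fun _ => ℕ → ℕ → ℕ → ℕ) (fun _ _ out => out)
    (fun _ ih aa pw out => forceN aa (fun aa => forceN pw (fun pw =>
      ih (Nat.div aa W) (Nat.mul pw W)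
        (Nat.add out (Nat.mul (redC b p n (dotL b rows (Nat.mod aa W) 0) 1 0) pw))))) k

theorem rowsC_eq (n p b W : ℕ) (rows : List ℕ) (k : ℕ) (aa pw out : ℕ) :
    rowsC n p b W rows k aa pw out
      = out + pw * ∑ i ∈ Finset.range k,
          (redC b p n (dotL b rows (aa / W ^ i % W) 0) 1 0) * W ^ i := by
  induction k generalizing aa pw out with
  | zero => simp [rowsC]
  | succ k ih =>
    show forceN aa (fun aa => forceN pw (fun pw => rowsC n p b W rows k (Nat.div aa W)
      (Nat.mul pw W) (Nat.add out (Nat.mul (redC b p n (dotL b rows (Nat.mod aa W) 0) 1 0) pw))))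
      = _
    rw [forceN_eq, forceN_eq, ih, Finset.sum_range_succ']
    show out + redC b p n (dotL b rows (aa % W) 0) 1 0 * pw + pw * W *
      ∑ i ∈ Finset.range k, redC b p n (dotL b rows (aa / W / W ^ i % W) 0) 1 0 * W ^ i = _
    have h : ∀ i, redC b p n (dotL b rows (aa / W ^ (i + 1) % W) 0) 1 0 * W ^ (i + 1)
        = W * (redC b p n (dotL b rows (aa / W / W ^ i % W) 0) 1 0 * W ^ i) := by
      intro i
      rw [Nat.div_div_eq_div_mul, ← pow_succ']
      ring
    simp only [h, ← Finset.mul_sum, pow_zero, Nat.div_one, mul_one]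
    ring

/-- the product of two packed matrices -/
def mulC (n p b : ℕ) (A B : ℕ) : ℕ :=
  forceN (Nat.pow b n) (fun W => splitC W n B (fun rows => rowsC n p b W rows n A 1 0))

end Cfsg.Agent.Lib.helper17.F22M
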